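import Cfsg.Agent.H0.TC
set_option maxRecDepth 100000
namespace H0.TCHSp2
open H0
noncomputable def r0 : TC.WTr := (.node (.node (.node (.node (.node (.node (.leaf [0] 0 0 false) (.leaf [5, 3, 4, 5, 4] 12 4 false)) (.node (.leaf [1, 0, 2, 2, 0, 4, 0] 16 1 false) (.leaf [1, 0, 3, 5, 0, 1, 0] 25 3 false))) (.node (.node (.leaf [5, 3, 2, 0, 2, 4, 2] 22 5 false) (.leaf [3, 5, 3, 4, 5] 12 3 false)) (.node (.leaf [0, 2, 4, 2, 0, 5, 3] 22 0 false) (.leaf [4, 1, 3, 1, 3, 1, 0] 23 6 false)))) (.node (.node (.node (.leaf [1, 4, 1, 0, 1, 3, 5] 22 2 true) (.leaf [3] 3 0 false)) (.node (.leaf [5, 1, 1, 0, 2, 2, 2, 0, 2] 17 9 true) (.leaf [2, 5, 2, 3, 5, 0, 1] 24 4 true))) (.node (.node (.leaf [0, 1, 0, 1, 0, 1, 0] 18 1 false) (.leaf [4] 4 0 false)) (.leaf [1] 1 1 false)))) (.node (.node (.node (.node (.leaf [1, 0, 5, 1, 0, 3, 5] 25 0 false) (.leaf [5, 0, 1, 4, 1, 0, 1] 22 0 true)) (.node (.leaf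 [2] 1 0 false) (.leaf [1, 1, 0, 1, 1, 1, 0, 2, 2] 17 9 false))) (.node (.node (.leaf [0, 1, 3, 5, 0, 1, 4] 22 5 true) (.leaf [1, 0, 1, 3, 5, 0, 1] 22 4 true)) (.leaf [1] 1 1 false))) (.node (.node (.node (.leaf [3, 4, 1, 0, 2, 4, 3] 26 0 false) (.leaf [4] 4 0 false)) (.node (.leaf [5, 0, 2, 0, 5, 3, 0] 25 3 true) (.leaf [2, 3, 5, 0, 1, 5, 2] 24 6 true))) (.node (.node (.leaf [5, 2, 0, 5, 3, 1, 5] 24 2 false) (.leaf [4] 4 0 false)) (.leaf [0, 2, 0, 1, 0] 15 5 false))))) (.node (.node (.node (.node (.node (.leaf [2, 2, 0, 4, 0, 1, 1] 16 3 false) (.leaf [0, 3, 4, 1, 0, 2, 4] 26 7 false)) (.node (.leaf [2] 1 0 false) (.leaf [3, 0, 2, 5, 0, 2, 0] 25 0 true))) (.node (.node (.leaf [0] 0 0 false) (.leaf [3, 4, 5, 3, 5] 13 5 false)) (.leaf [0, 5, 3, 1, 5, 1, 5] 24 4 false))) (.node (.node (.node (.leaf [2, 0, 5, 3, 0, 2, 5] 25 5 true) (.leaf [3] 3 0 false)) (.node (.leaf [0, 1, 0, 3, 0] 15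 1 false) (.leaf [3, 4, 5, 4, 3] 12 5 false))) (.node (.node (.leaf [4, 1, 0, 1, 3, 5, 0] 22 3 true) (.leaf [4] 4 0 false)) (.leaf [4, 2, 4, 1, 4] 21 4 false)))) (.node (.node (.node (.node (.leaf [3, 0, 2, 0, 1] 15 4 false) (.leaf [5, 0, 1, 5, 2, 5, 2] 24 0 true)) (.node (.leaf [1] 1 1 false) (.leaf [0, 1, 0, 5, 1, 0, 3] 25 7 false))) (.node (.node (.leaf [0, 2, 4, 3, 0, 3, 4] 26 3 false) (.leaf [3, 4, 2, 4, 1] 21 3 false)) (.leaf [1] 1 1 false))) (.node (.node (.node (.leaf [5, 3, 1, 5, 1, 5, 2] 24 5 false) (.leaf [2, 0, 5, 3, 2, 0, 2] 22 3 false)) (.node (.leaf [4, 1, 4, 3, 4] 21 0 false) (.leaf [0, 1, 4, 1, 0, 1, 3] 22 1 true))) (.node (.node (.leaf [0, 3, 5, 0, 1, 0, 5] 25 4 false) (.leaf [4] 4 0 false)) (.leaf [1, 3, 1, 0, 5, 4, 1] 23 1 false))))))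
noncomputable def r1 : TC.WTr := (.node (.node (.node (.node (.node (.node (.leaf [1, 0, 3, 0, 2] 15 2 false) (.leaf [1, 0, 5, 4, 1, 3, 1] 23 3 false)) (.node (.leaf [2] 1 0 false) (.leaf [1, 5, 2, 0, 5, 3, 1] 24 1 false))) (.node (.node (.leaf [0] 0 0 false) (.leaf [3, 0, 3, 4, 1, 0, 2] 26 6 false)) (.node (.leaf [2, 2, 2, 2, 2] 14 0 true) (.leaf [2, 0, 5, 3, 1, 5, 1] 24 3 false)))) (.node (.node (.node (.leaf [5, 3, 0, 2, 5, 0, 2] 25 7 true) (.leaf [3] 3 0 false)) (.node (.leaf [3, 2, 4, 5, 0, 2, 3] 23 5 true) (.leaf [3, 2, 0, 2, 4, 2, 0] 22 6 false))) (.node (.node (.leaf [0, 5, 4, 1, 3, 1, 3] 23 4 false) (.leaf [4] 4 0 false)) (.leaf [3] 3 0 false)))) (.node (.node (.node (.node (.leaf [1, 3, 5, 0, 1, 4, 1] 22 6 true) (.leaf [4, 5, 4, 3, 5] 12 0 false)) (.node (.leaf [2] 1 0 false) (.leaf [3, 1, 5, 1, 5, 2, 0] 24 6 false))) (.node (.node (.leaf [1, 1, 1, 1, 1] 14 0 false) (.leaf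 [2, 4, 1, 4, 3] 21 5 false)) (.leaf [1] 1 1 false))) (.node (.node (.node (.leaf [5, 4, 1, 3, 1, 3, 1] 23 5 false) (.leaf [1, 4, 3, 4, 2] 21 1 false)) (.node (.leaf [2, 0, 4, 0, 1, 1, 0] 16 4 false) (.leaf [0, 2, 0, 5, 3, 0, 2] 25 4 true))) (.node (.node (.leaf [0, 3, 0, 2, 0] 15 3 false) (.leaf [4] 4 0 false)) (.leaf [4, 3, 4, 3, 4, 3, 4] 6 0 false))))) (.node (.node (.node (.node (.node (.leaf [2, 3, 2, 3, 2, 4, 5] 23 2 true) (.leaf [4, 1, 0, 2, 4, 3, 0] 26 1 false)) (.node (.leaf [2] 1 0 false) (.leaf [4, 3, 5, 3, 4] 12 2 false))) (.node (.node (.leaf [2] 1 0 false) (.leaf [5, 4, 3, 5, 3] 12 1 false)) (.leaf [1] 1 1 false))) (.node (.node (.node (.leaf [1, 0, 2, 0, 1, 0, 2, 0, 1, 0, 2, 0, 1, 0, 2, 0, 1, 0, 2] 19 0 false) (.leaf [3] 3 0 false)) (.node (.leaf [3, 5, 0, 1, 5, 2, 5] 24 7 true) (.leaf [3, 5, 4, 3, 4] 13 2 false))) (.node (.node (.leaf [3, 5, 0, 1, 4, 1, 0] 22 7 true)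 (.leaf [4] 4 0 false)) (.leaf [5, 4, 3, 4, 5] 13 3 false)))) (.node (.node (.node (.node (.leaf [4, 0, 1, 1, 0, 2, 2] 16 6 false) (.leaf [3] 3 0 false)) (.node (.leaf [5, 2, 3, 5, 0, 1, 5] 24 5 true) (.leaf [4, 3, 4, 5, 3] 13 4 false))) (.node (.node (.leaf [4, 3, 4, 2, 4] 21 2 false) (.leaf [4] 4 0 false)) (.leaf [1] 1 1 false))) (.node (.node (.node (.leaf [1, 1, 0, 2, 2, 0, 4] 16 0 false) (.leaf [0, 1, 1, 0, 2, 2, 0] 16 7 false)) (.node (.leaf [0, 4, 0, 1, 1, 0, 2] 16 5 false) (.leaf [0, 2, 3, 2, 3, 2, 4] 23 1 true))) (.node (.node (.leaf [0, 2, 2, 0, 4, 0, 1] 16 2 false) (.leaf [5] 5 0 false)) (.leaf [2, 3, 2, 4, 5, 0, 2] 23 4 true))))))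
noncomputable def tS : Tr := (.leaf (nat_lit 0xfffbf1a2cc4214dceba2bfffa2321aa79c37145c96fffc4d698ca5c411449cdfff92013c90591dc43ca4fff95c8ff9b813b7ab792fff53ca8ba2c9c6136c39fff1f889b7f113397aa8bfffb81becb24731918133fff74a3d596fa6d13267dfff59a8bc6981329ac525fff79ebdf7ffca4131a2ffffbe612dca797689f918fffb0812ca58bdfca5be0fffb8e91ab3212c78e36afffa8a1e39cf90212b9b6fff12aaafaaa9a1ab1956fff8969409f581112a911fff1299a89a7954a2cd00fff1287feae467389a96dfff12793f29e4c0a13b8dfff82ec4388b124b8dca2fff6197056fe7481237effff570120865d5bca6bd5fff7b385d7371206904a7fffbec0c51a77938de9a1fff1a625c0c56e27a63d0fff0c4a17203a121c195afff2020c4b928a24b85defff3fb4b74b50c4633505fff80b29f1816f04fc0c4fff0c38f697a9c4addc37fff17c4b9a2d8a79bd0c3fff0c27d24b95dd4fe596fff9d30c23fe88196f96ffff1f20c119c1c0904291fff26f5b45541bf0c19bdfff4a79798695146760c1fff0c024d1f95ba74857afff72d6767247210c085afff8488258440c09089c8fff0bf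2aa1f36687fd45efff2530bf19872a9c6811fff5671f17a49180bf552fff0be1be8a2a285327d0fff8f70be82577d1bd7e9fff84295f0be808729832fff78291d6c40be17734cfff5e3a205039112950befff0bd258a2039c7b46fffff39b0bd3161bc57b5c8fff2e35265250bd4fd44ffff9130bcad952a3f74c3fff6e14750bcb301bb1bafff4b629a34e1b91b80bcfff0bbb304751b7a22965fffb8d6e10bb62f6de3affff5cf26777c78e0bb6cffff7e73974700bb3a2239fff6981b67272fa6f50bbfff0ba1b5b3034a1b4281fff4750baa7b1b3171296fff1b29c77951b10ba7e8fff1b09c490f0ba735253fff1af66e7dd17662e0bafff1ae0b91fe45e6e1583fff8b539b0b917340722dfff4063425701ca0b94b9fff0b884f7331751ad502fff5210b844b1ac17652efff1fc6300b89656df790fff3513fe3f30b827e17bfff16d1ab17157f1aa0b8fff05d14f14e4b984e1dafff14d14c05d4ce14b14afff1497ee89d1ed05d148fff1471465d61d71dc05dfff05c1451751441d8143fff14205c11a1411405cffff13f13e05c13d1da2eefff13c13b13a05c139138fff1371361d41df13505cfff05b1341332e3233132fff13105b13012f12e12dfff12c12b05b12a129128fff1d412712612505b113fff12412312205b121120fff0c50b70c40c30000c2fff0c10c00bf0000be0bdfff0bc0bb0ba0b90b8000fff00000000005d05c05b))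
noncomputable def tJ : Tr := (.leaf (nat_lit 0x100485e44608201327010800132ea1200993a08f1024a5e042081a032f011004a5dc0000229191b70820132e87100085d186081a168320200140008f2009938000101e0464460800102f00282a410528081c2082a1282c41140028284031602830460410100402e520081a002f01201940000a100005d046200193a08018104ca800282e300008200170208f1004005c060000050017282a40200000143011552828412520200140800720099380000800530320000c001819283040100c0800228300101204e000282e0120082001720000080a1002e7282c000000201760800218140b00c0100e01d84600000180b6282860140020094000091004005002200190008018107c80000006318019283001000818000c1c80080004030b10002060050000018018282e001004200170006008000002e11000005ced0000101017200150008018000a8c000800200aa0282c00040a200160002018000b000e100000d8420002018016282a00110318000a8c0008002002a00000000015282c010000200160800018000b0000100000580000000000162828000000200140000018000a0000080000028110000050000800100280100000500000000000140027398000))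
noncomputable def tQ : Tr := (.leaf (nat_lit 0x0))
noncomputable def tR : TC.WTr := (.node r0 r1)
def hl : List ℕ := [3, 4, 5]
def B : List (List ℕ) := [[0, 0], [1, 2], [2, 1], [3, 3], [4, 4], [5, 5], [3, 4, 3, 4, 3, 4, 3, 4], [3, 4, 3, 4, 3, 4, 3, 4], [3, 5, 3, 5, 3, 5, 3, 5], [3, 5, 3, 5, 3, 5, 3, 5], [4, 5, 4, 5, 4, 5, 4, 5], [4, 5, 4, 5, 4, 5, 4, 5], [3, 4, 5, 4, 3, 5], [3, 4, 5, 3, 5, 4], [1, 1, 1, 1, 1, 1], [0, 2, 0, 1, 0, 3], [0, 1, 1, 0, 2, 2, 0, 4], [1, 1, 0, 1, 1, 1, 0, 2, 2, 5], [0, 1, 0, 1, 0, 1, 0, 1], [0, 1, 0, 2, 0, 1, 0, 2, 0, 1, 0, 2, 0, 1, 0, 2, 0, 1, 0, 2], [0, 2, 0, 2, 0, 2, 0, 2], [2, 4, 1, 4, 3, 4], [2, 0, 2, 4, 2, 0, 5, 3], [1, 3, 1, 3, 1, 0, 5, 4], [1, 5, 1, 5, 2, 0, 5, 3], [0, 1, 0, 5, 1, 0, 3, 5], [0, 3, 4, 1, 0, 2, 4, 3]]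
def subs : List (List ℕ) := [[3], [4], [5]]
def ex : List (List ℕ) := []
def inv (x : ℕ) : ℕ := [0, 2, 1, 3, 4, 5].getD x 0
noncomputable def rS : ℕ → ℕ := rowOf tS (nat_lit 8) (nat_lit 255) (nat_lit 84) (nat_lit 19342813113834066795298815)
noncomputable def rJ : ℕ → ℕ := rowOf tJ (nat_lit 8) (nat_lit 255) (nat_lit 40) (nat_lit 1099511627775)
noncomputable def C : TC.Cfg where
  S := look rS (nat_lit 12) (nat_lit 4095)
  J := look rJ (nat_lit 5) (nat_lit 31)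
  Q := lookQ tQ (nat_lit 8) (nat_lit 1) (nat_lit 1)
  R := tR.get
  hl := fun x => hl.contains x
  n := (nat_lit 90)
  M := (nat_lit 90)
  top := (nat_lit 3420)
  nl := (nat_lit 6)
  need := (nat_lit 6)
  nr := (nat_lit 19)
theorem k0 : TC.chkRange C 0 2 = true := by decide +kernel
theorem rows0 : ∀ c < (0 + 2) * 64, c < C.M → TC.chkRow C c = true :=
  TC.rows_step (TC.rows_zero C) k0
theorem main {G : Type*} [Group G] (g : ℕ → G) (hB : ∀ r ∈ B, ev g r = 1) (H : Subgroup G)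
    (hH : ∀ w ∈ subs, ev g w ∈ H) :
    H.relIndex (Subgroup.closure (g '' {x | x < 6})) ≠ 0 ∧
      H.relIndex (Subgroup.closure (g '' {x | x < 6})) ≤ 90 :=
  TC.index_le C B subs ex inv hl tR.hint rfl (by decide +kernel) (by decide +kernel)
    (TC.rows_done rows0 (by decide +kernel)) g hB H hH
end H0.TCHSp2
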